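import Groth.Agent.SGA3a.FibreDense
import Groth.Prelude.Def_CInt
import Mathlib.AlgebraicGeometry.Geometrically.Irreducible
import Mathlib.AlgebraicGeometry.Morphisms.Smooth
import Groth.Agent.TopDim50.Basic

/-!
Big open subsets of smooth families with irreducible fibres are schematically dense.
-/

set_option autoImplicit false
set_option backward.isDefEq.respectTransparency.types false
set_option linter.style.haveILetI false

universe u

noncomputable section

open CategoryTheory CategoryTheory.Limits AlgebraicGeometry TopologicalSpace Opposite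

namespace Groth.Agent.BigOpen97

variable {X S : Scheme.{u}} (π : X ⟶ S)

/-- The generic point of a fibre lies in every open set meeting the fibre, and in every big open set. -/
theorem exists_generic [GeometricallyIrreducible π] (U V : X.Opens)
    (hU : ∀ x, x ∉ U → (1 : WithBot ℕ∞) ≤ ringKrullDim ↑(CInt.fiberStalk π x)) {x₀ : X} (hx₀ : x₀ ∈ V) :
    ∃ x, x ∈ U ∧ x ∈ V ∧ π x = π x₀ := by
  let η := genericPoint ↥(π.fiber (π x₀))
  let x := π.fiberι (π x₀) η
  have hπx : π x = π x₀ := (π.range_fiberι (π x₀)).le ⟨η, rfl⟩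
  have hsp : ∀ y, π y = π x₀ → x ⤳ y := by
    intro y hy
    obtain ⟨z, rfl⟩ := (π.range_fiberι (π x₀)).ge (show y ∈ π ⁻¹' {π x₀} from hy)
    exact (genericPoint_specializes z).map (π.fiberι (π x₀)).continuous
  refine ⟨x, ?_, (hsp x₀ rfl).mem_open V.2 hx₀, hπx⟩
  by_contra hx
  have h1 := hU x hx
  have hmax : ∀ z : ↥(π.fiber (π x)), π.asFiber x ⤳ z := fun z => by
    rw [← (π.fiberι (π x)).isEmbedding.isInducing.specializes_iff, π.fiberι_asFiber x]
    exact hsp _ (((π.range_fiberι (π x)).le ⟨z, rfl⟩).trans hπx)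
  have h0 : Order.coheight (π.asFiber x) = 0 :=
    Order.coheight_eq_zero.2 fun z _ => hmax z
  rw [show CInt.fiberStalk π x = (π.fiber (π x)).presheaf.stalk (π.asFiber x) from rfl,
    ringKrullDim_stalk_eq_coheight, h0] at h1
  exact absurd h1 (by decide)

theorem isSchematicallyDense_of_big [Smooth π] [GeometricallyIrreducible π] (U : X.Opens)
    (hU : ∀ x, x ∉ U → (1 : WithBot ℕ∞) ≤ ringKrullDim ↑(CInt.fiberStalk π x)) :
    CInt.IsSchematicallyDense U := by
  intro V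
  refine (injective_iff_map_eq_zero (X.presheaf.map (homOfLE (inf_le_left : V ⊓ U ≤ V)).op).hom).2 fun k hk => ?_
  have hloc : ∀ x : V, ∃ W' : X.affineOpens, W'.1 ≤ V ∧ x.1 ∈ W'.1 ∧ ∃ W : S.affineOpens, W'.1 ≤ π ⁻¹ᵁ W.1 := by
    intro x
    obtain ⟨_, ⟨W, hW, rfl⟩, hxW, -⟩ :=
      S.isBasis_affineOpens.exists_subset_of_mem_open (Set.mem_univ (π x.1)) isOpen_univ
    obtain ⟨_, ⟨W', hW', rfl⟩, hxW', hle⟩ :=
      X.isBasis_affineOpens.exists_subset_of_mem_open (a := x.1) (u := ↑(V ⊓ π ⁻¹ᵁ W)) ⟨x.2, hxW⟩ (V ⊓ π ⁻¹ᵁ W).2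
    exact ⟨⟨W', hW'⟩, fun y hy => (hle hy).1, hxW', ⟨W, hW⟩, fun y hy => (hle hy).2⟩
  choose W' hle hmem W hW using hloc
  refine TopCat.Sheaf.eq_of_locally_eq' X.sheaf (fun x => (W' x).1) V (fun x => homOfLE (hle x))
    (fun y hy => Opens.mem_iSup.2 ⟨⟨y, hy⟩, hmem ⟨y, hy⟩⟩) _ _ fun x => ?_
  refine Eq.trans ?_ (map_zero (X.presheaf.map (homOfLE (hle x)).op).hom).symm
  let A := W' x
  let B := W x
  letI := (π.appLE B.1 A.1 (hW x)).hom.toAlgebra
  haveI : Algebra.Smooth Γ(S, B.1) Γ(X, A.1) :=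
    RingHom.smooth_algebraMap.1 (HasRingHomProperty.appLE (P := @Smooth) π ‹Smooth π› B A (hW x))
  have hcomm : ∀ Q : PrimeSpectrum Γ(X, A.1),
      π (A.2.fromSpec Q) = B.2.fromSpec (PrimeSpectrum.comap (algebraMap Γ(S, B.1) Γ(X, A.1)) Q) := fun Q => by
    rw [← Scheme.Hom.comp_apply, ← IsAffineOpen.SpecMap_appLE_fromSpec π B.2 A.2 (hW x), Scheme.Hom.comp_apply]
    rfl
  refine SGA3a.FibreDense.eq_zero_of_dense (R := Γ(S, B.1)) (C := Γ(X, A.1)) (fun p => ?_) _ fun Q => ?_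
  · have e : PrimeSpectrum.comap (algebraMap Γ(S, B.1) Γ(X, A.1)) ⁻¹' {p} =
        A.2.fromSpec ⁻¹' (π ⁻¹' {B.2.fromSpec p}) := by
      ext Q
      show PrimeSpectrum.comap _ Q = p ↔ π (A.2.fromSpec Q) = B.2.fromSpec p
      rw [hcomm]
      exact ⟨fun h => congrArg _ h, fun h => B.2.fromSpec.isOpenEmbedding.injective h⟩
    rw [e]
    refine IsPreirreducible.preimage ?_ A.2.fromSpec.isOpenEmbedding
    rw [← π.range_fiberι, ← Set.image_univ]
    exact (PreirreducibleSpace.isPreirreducible_univ.image _ (π.fiberι _).continuous.continuousOn)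
  · obtain ⟨y, hyU, hyA, hy⟩ := exists_generic π U A.1 hU (x₀ := A.2.fromSpec Q)
      (A.2.range_fromSpec.le ⟨Q, rfl⟩)
    obtain ⟨f, hfU, hyf⟩ := A.2.exists_basicOpen_le (V := U) ⟨y, hyU⟩ hyA
    have hy' : y ∈ Set.range A.2.fromSpec := A.2.range_fromSpec.ge hyA
    obtain ⟨Q', rfl⟩ := hy'
    have hres : X.presheaf.map (homOfLE (X.basicOpen_le f)).op (X.presheaf.map (homOfLE (hle x)).op k) = 0 := by
      rw [← ConcreteCategory.comp_apply, ← Functor.map_comp]
      have e : (homOfLE (hle x)).op ≫ (homOfLE (X.basicOpen_le f)).op =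
          (homOfLE (inf_le_left : V ⊓ U ≤ V)).op ≫
            (homOfLE (le_inf ((X.basicOpen_le f).trans (hle x)) hfU : X.basicOpen f ≤ V ⊓ U)).op := rfl
      rw [e, Functor.map_comp, ConcreteCategory.comp_apply, hk, map_zero]
    haveI := A.2.isLocalization_basicOpen f
    obtain ⟨⟨_, n, rfl⟩, hn⟩ := (IsLocalization.map_eq_zero_iff (Submonoid.powers f)
      Γ(X, X.basicOpen f) _).1 hres
    refine ⟨Q', f ^ n, B.2.fromSpec.isOpenEmbedding.injective ((hcomm Q').symm.trans (hy.trans (hcomm Q))), ?_, hn⟩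
    intro h
    have hQ' : Q' ∈ PrimeSpectrum.basicOpen f := by
      rw [← A.2.fromSpec_preimage_basicOpen f] at *
      exact hyf
    exact hQ' (Q'.isPrime.mem_of_pow_mem n h)

end Groth.Agent.BigOpen97
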