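import Groth.Agent.BigOpen97.Pair
import Groth.Agent.Pure83.Elem
import Groth.Agent.CAlg9.FibreDepthBC
import Groth.Agent.Fib62.RegularFlat

/-!
The regular pair in the local ring and in a neighbourhood.
-/

set_option autoImplicit false
set_option backward.isDefEq.respectTransparency.types false
set_option linter.style.haveILetI false

universe u

noncomputable section

open CategoryTheory CategoryTheory.Limits AlgebraicGeometry TopologicalSpace Opposite
open RingTheory.Sequence TensorProduct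
open scoped Pointwise

namespace Groth.Agent.BigOpen97

open Fib62 CAlg9.FibreDepth

attribute [local instance] Algebra.TensorProduct.rightAlgebra

variable {X S : Scheme.{u}} (π : X ⟶ S) [Smooth π]

theorem regMod_of_weaklyRegular {L : Type u} [CommRing L] {y z : L} (h : IsWeaklyRegular L [y, z]) :
    IsSMulRegular L y ∧ Pure83.RegMod (Ideal.span {y}) z := by
  obtain ⟨h1, h2⟩ := (isWeaklyRegular_cons_iff L y [z]).1 h
  refine ⟨h1, fun a ha => ?_⟩
  have h3 := ((isWeaklyRegular_cons_iff _ z []).1 h2).1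
  have e : (y • (⊤ : Submodule L L)) = Ideal.span {y} := by
    rw [← Submodule.ideal_span_singleton_smul, smul_eq_mul, Ideal.mul_top]
  have h4 : z • (Submodule.Quotient.mk a : QuotSMulTop y L) = z • 0 := by
    rw [smul_zero, ← Submodule.Quotient.mk_smul, Submodule.Quotient.mk_eq_zero, e]
    exact ha
  have h5 := h3 h4
  rw [Submodule.Quotient.mk_eq_zero, e] at h5
  exact h5

variable {U : X.Opens} (hU : IsAffineOpen U) {V : S.Opens} (hV : IsAffineOpen V) (e : U ≤ π ⁻¹ᵁ V)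

include hV e in
/-- The pair is regular in the localisations near the point. -/
theorem exists_regular_pair (Z : Set X) (hZ : IsClosed Z)
    {x : X} (hdim : ∀ w ∈ Z, w ⤳ x → (2 : WithBot ℕ∞) ≤ ringKrullDim ↑(CInt.fiberStalk π w)) (hxU : x ∈ U) (hxZ : x ∈ Z) :
    ∃ y z h : Γ(X, U), (∀ p ∈ X.basicOpen y, p ∉ Z) ∧ (∀ p ∈ X.basicOpen z, p ∉ Z) ∧
      y ∈ (hU.primeIdealOf ⟨x, hxU⟩).asIdeal ∧ z ∈ (hU.primeIdealOf ⟨x, hxU⟩).asIdeal ∧
      h ∉ (hU.primeIdealOf ⟨x, hxU⟩).asIdeal ∧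
      ∀ P : PrimeSpectrum Γ(X, U), h ∉ P.asIdeal →
        IsWeaklyRegular (Localization.AtPrime P.asIdeal) [y, z] := by
  letI : Algebra Γ(S, V) Γ(X, U) := (π.appLE V U e).hom.toAlgebra
  haveI : Algebra.Smooth Γ(S, V) Γ(X, U) :=
    RingHom.smooth_algebraMap.1 (HasRingHomProperty.appLE (P := @Smooth) π ‹Smooth π› ⟨V, hV⟩ ⟨U, hU⟩ e)
  obtain ⟨gs, hlen, hout, hmem, hreg⟩ := exists_fibre_pair π hU hV e Z hZ hdim hxU hxZ
  obtain ⟨y, z, rfl⟩ := List.length_eq_two.1 hlen
  have hflat : ∀ P : PrimeSpectrum Γ(X, U),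
      Module.Flat Γ(S, V) (Localization.AtPrime P.asIdeal ⊗[Γ(X, U)] Γ(X, U)) := fun P =>
    haveI : Module.Flat Γ(X, U) (Localization.AtPrime P.asIdeal) := IsLocalization.flat _ P.asIdeal.primeCompl
    flat_tensor_of_flat Γ(X, U)
  obtain ⟨_, ⟨_, ⟨h, rfl⟩, rfl⟩, hxh, hle⟩ :=
    PrimeSpectrum.isBasis_basic_opens.exists_subset_of_mem_open
      (show hU.primeIdealOf ⟨x, hxU⟩ ∈ {P : PrimeSpectrum Γ(X, U) |
        Module.Flat Γ(S, V) (Localization.AtPrime P.asIdeal ⊗[Γ(X, U)] Γ(X, U)) ∧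
        IsWeaklyRegular (FibreLocal Γ(S, V) P ⊗[Γ(X, U)] Γ(X, U)) [y, z]} from ⟨hflat _, hreg⟩)
      (isOpen_weaklyRegular_fibre (A := Γ(S, V)) [y, z] Γ(X, U))
  refine ⟨y, z, h, hout y (by simp), hout z (by simp), hmem y (by simp), hmem z (by simp), hxh, fun P hP => ?_⟩
  obtain ⟨h1, h2⟩ := hle (show P ∈ (PrimeSpectrum.basicOpen h : Set _) from hP)
  exact (LinearEquiv.isWeaklyRegular_congr (TensorProduct.rid Γ(X, U) (Localization.AtPrime P.asIdeal)) [y, z]).1
    (weaklyRegular_and_flat P [y, z] Γ(X, U) h1 h2).1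

include hU hV e in
/-- Depth two of the local rings at points of fibre codimension two. -/
theorem two_le_depth_stalk (Z : Set X) (hZ : IsClosed Z)
    {x : X} (hdim : ∀ w ∈ Z, w ⤳ x → (2 : WithBot ℕ∞) ≤ ringKrullDim ↑(CInt.fiberStalk π w)) (hxU : x ∈ U) (hxZ : x ∈ Z) :
    (2 : ℕ∞) ≤ LocCoh.depth ↑(X.presheaf.stalk x) ↑(X.presheaf.stalk x) := by
  obtain ⟨y, z, h, -, -, hy, hz, hh, hreg⟩ := exists_regular_pair π hU hV e Z hZ hdim hxU hxZ
  let P := hU.primeIdealOf ⟨x, hxU⟩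
  letI : Algebra Γ(X, U) (X.presheaf.stalk x) := (X.presheaf.germ U x hxU).hom.toAlgebra
  haveI : IsLocalization.AtPrime (X.presheaf.stalk x) P.asIdeal := hU.isLocalization_stalk ⟨x, hxU⟩
  have h1 := (LinearEquiv.isWeaklyRegular_congr
    (IsLocalization.algEquiv P.asIdeal.primeCompl (Localization.AtPrime P.asIdeal) (X.presheaf.stalk x)).toLinearEquiv
    [y, z]).1 (hreg P hh)
  rw [← isWeaklyRegular_map_algebraMap_iff (S := X.presheaf.stalk x)] at h1
  exact length_le_idealDepth (IsLocalRing.maximalIdeal (X.presheaf.stalk x)) h1 fun r hr => by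
    obtain ⟨g, hg, rfl⟩ := List.mem_map.1 hr
    rw [IsLocalization.AtPrime.to_map_mem_maximal_iff (X.presheaf.stalk x) P.asIdeal]
    rcases List.mem_pair.1 hg with rfl | rfl <;> assumption

end Groth.Agent.BigOpen97
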