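import Groth.Agent.BigOpen97.Dense
import Groth.Agent.BigOpen97.Regular

/-!
Functions and morphisms to affine schemes extend across big open subsets.
-/

set_option autoImplicit false
set_option backward.isDefEq.respectTransparency.types false
set_option linter.style.haveILetI false

universe u

noncomputable section

open CategoryTheory CategoryTheory.Limits AlgebraicGeometry TopologicalSpace Opposite
open RingTheory.Sequence

namespace Groth.Agent.BigOpen97

open QC70

variable {X S : Scheme.{u}} (π : X ⟶ S) [Smooth π] (W : X.Opens)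
  (hW : ∀ x, x ∉ W → (2 : WithBot ℕ∞) ≤ ringKrullDim ↑(CInt.fiberStalk π x))

theorem germ_weaklyRegular {U : X.Opens} (hU : IsAffineOpen U) {y z h : Γ(X, U)}
    (hreg : ∀ P : PrimeSpectrum Γ(X, U), h ∉ P.asIdeal → IsWeaklyRegular (Localization.AtPrime P.asIdeal) [y, z])
    {w : X} (hw : w ∈ U) (hwh : h ∉ (hU.primeIdealOf ⟨w, hw⟩).asIdeal) :
    IsSMulRegular (X.presheaf.stalk w) (X.presheaf.germ U w hw y) ∧
      Pure83.RegMod (Ideal.span {X.presheaf.germ U w hw y}) (X.presheaf.germ U w hw z) := by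
  let P := hU.primeIdealOf ⟨w, hw⟩
  letI : Algebra Γ(X, U) (X.presheaf.stalk w) := (X.presheaf.germ U w hw).hom.toAlgebra
  haveI : IsLocalization.AtPrime (X.presheaf.stalk w) P.asIdeal := hU.isLocalization_stalk ⟨w, hw⟩
  have h1 := (LinearEquiv.isWeaklyRegular_congr
    (IsLocalization.algEquiv P.asIdeal.primeCompl (Localization.AtPrime P.asIdeal) (X.presheaf.stalk w)).toLinearEquiv
    [y, z]).1 (hreg P hwh)
  rw [← isWeaklyRegular_map_algebraMap_iff (S := X.presheaf.stalk w)] at h1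
  exact regMod_of_weaklyRegular h1

include hW in
/-- Sections extend near every point. -/
theorem exists_local_extension {U : X.Opens} (hU : IsAffineOpen U) {V : S.Opens} (hV : IsAffineOpen V)
    (e : U ≤ π ⁻¹ᵁ V) (s : Γ(X, U ⊓ W)) {x : X} (hx : x ∈ U) :
    ∃ (N : X.Opens) (hN : N ≤ U) (t : Γ(X, N)), x ∈ N ∧
      resO X (inf_le_left : N ⊓ W ≤ N) t = resO X (inf_le_inf_right W hN) s := by
  by_cases hxW : x ∈ W
  · refine ⟨U ⊓ W, inf_le_left, s, ⟨hx, hxW⟩, ?_⟩
    rfl
  obtain ⟨y, z, h, hy, hz, hyP, hzP, hh, hreg⟩ := exists_regular_pair π hU hV e (W : Set X)ᶜ W.2.isClosed_compl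
    (fun w hw _ => hW w hw) hx hxW
  have hyW : X.basicOpen y ≤ U ⊓ W := fun p hp => ⟨X.basicOpen_le y hp, not_not.1 (hy p hp)⟩
  have hzW : X.basicOpen z ≤ U ⊓ W := fun p hp => ⟨X.basicOpen_le z hp, not_not.1 (hz p hp)⟩
  haveI := hU.isLocalization_basicOpen y
  haveI := hU.isLocalization_basicOpen z
  obtain ⟨⟨a, _, n, rfl⟩, ha⟩ := IsLocalization.surj (Submonoid.powers y) (resO X hyW s)
  obtain ⟨⟨b, _, m, rfl⟩, hb⟩ := IsLocalization.surj (Submonoid.powers z) (resO X hzW s)
  have hyz : X.basicOpen (y * z) = X.basicOpen y ⊓ X.basicOpen z := X.basicOpen_mul y z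
  haveI := hU.isLocalization_basicOpen (y * z)
  have h0 : algebraMap Γ(X, U) Γ(X, X.basicOpen (y * z)) (z ^ m * a) =
      algebraMap Γ(X, U) Γ(X, X.basicOpen (y * z)) (y ^ n * b) := by
    have e1 := congrArg (resO X (hyz.le.trans inf_le_left)) ha
    have e2 := congrArg (resO X (hyz.le.trans inf_le_right)) hb
    simp only [map_mul] at e1 e2
    change resO X _ (resO X hyW s) * resO X _ (resO X (X.basicOpen_le y) (y ^ n)) =
      resO X _ (resO X (X.basicOpen_le y) a) at e1
    change resO X _ (resO X hzW s) * resO X _ (resO X (X.basicOpen_le z) (z ^ m)) =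
      resO X _ (resO X (X.basicOpen_le z) b) at e2
    simp only [resO_resO] at e1 e2
    show resO X (X.basicOpen_le (y * z)) _ = resO X (X.basicOpen_le (y * z)) _
    simp only [resO, map_mul] at e1 e2 ⊢
    rw [← e1, ← e2]
    ring
  obtain ⟨⟨_, i, rfl⟩, hi⟩ := (IsLocalization.eq_iff_exists (Submonoid.powers (y * z)) _).1 h0
  obtain ⟨hyr, hzr⟩ := germ_weaklyRegular hU hreg hx hh
  let g := X.presheaf.germ U x hx
  have ha' : g a ∈ Ideal.span {g y ^ n} := by
    have h1 : g z ^ i * (g z ^ m * g a - g y ^ n * g b) = 0 := (hyr.pow i).right_eq_zero_of_smul (by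
      have := congrArg g hi
      simp only [map_mul, map_pow, mul_pow] at this
      rw [smul_eq_mul]
      linear_combination this)
    refine ((hzr.pow_base hyr n).pow (i + m)) _ (Ideal.mem_span_singleton'.2 ⟨g z ^ i * g b, ?_⟩)
    linear_combination -h1
  obtain ⟨c', hc'⟩ := Ideal.mem_span_singleton'.1 ha'
  letI : Algebra Γ(X, U) (X.presheaf.stalk x) := g.hom.toAlgebra
  haveI : IsLocalization.AtPrime (X.presheaf.stalk x) (hU.primeIdealOf ⟨x, hx⟩).asIdeal :=
    hU.isLocalization_stalk ⟨x, hx⟩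
  obtain ⟨⟨c, ⟨v, hv⟩⟩, hcv⟩ := IsLocalization.surj (hU.primeIdealOf ⟨x, hx⟩).asIdeal.primeCompl c'
  have h2 : g (v * a) = g (y ^ n * c) := by
    simp only [map_mul, map_pow]
    change c' * g v = g c at hcv
    rw [← hc', ← hcv]
    ring
  obtain ⟨⟨v', hv'⟩, hvv⟩ := (IsLocalization.eq_iff_exists (hU.primeIdealOf ⟨x, hx⟩).asIdeal.primeCompl
    (X.presheaf.stalk x)).1 h2
  let u := v' * v
  have hu : u ∉ (hU.primeIdealOf ⟨x, hx⟩).asIdeal := fun hm =>
    ((hU.primeIdealOf ⟨x, hx⟩).isPrime.mem_or_mem hm).elim hv' hv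
  have hua : u * a = y ^ n * (v' * c) := by
    have hvv' : v' * (v * a) = v' * (y ^ n * c) := hvv
    linear_combination hvv'
  have memB : ∀ (f : Γ(X, U)) (w : X) (hw : w ∈ U), f ∉ (hU.primeIdealOf ⟨w, hw⟩).asIdeal → w ∈ X.basicOpen f := by
    intro f w hw hf
    have : hU.primeIdealOf ⟨w, hw⟩ ∈ hU.fromSpec ⁻¹ᵁ X.basicOpen f := by
      rw [hU.fromSpec_preimage_basicOpen f]
      exact hf
    change hU.fromSpec (hU.primeIdealOf ⟨w, hw⟩) ∈ X.basicOpen f at this
    rwa [hU.fromSpec_primeIdealOf ⟨w, hw⟩] at this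
  have notMemB : ∀ (f : Γ(X, U)) (w : X) (hw : w ∈ U), w ∈ X.basicOpen f → f ∉ (hU.primeIdealOf ⟨w, hw⟩).asIdeal := by
    intro f w hw hf
    have : hU.primeIdealOf ⟨w, hw⟩ ∈ hU.fromSpec ⁻¹ᵁ X.basicOpen f := by
      show hU.fromSpec (hU.primeIdealOf ⟨w, hw⟩) ∈ X.basicOpen f
      rw [hU.fromSpec_primeIdealOf ⟨w, hw⟩]
      exact hf
    rw [hU.fromSpec_preimage_basicOpen f] at this
    exact this
  haveI := hU.isLocalization_basicOpen u
  have huu : IsUnit (algebraMap Γ(X, U) Γ(X, X.basicOpen u) u) := IsLocalization.Away.algebraMap_isUnit u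
  let N := X.basicOpen u ⊓ X.basicOpen h
  let t₀ : Γ(X, X.basicOpen u) := algebraMap Γ(X, U) _ (v' * c) * ↑huu.unit⁻¹
  have ht₀ : t₀ * resO X (X.basicOpen_le u) u = resO X (X.basicOpen_le u) (v' * c) := by
    show t₀ * algebraMap Γ(X, U) Γ(X, X.basicOpen u) u = algebraMap Γ(X, U) _ (v' * c)
    rw [mul_assoc, IsUnit.val_inv_mul, mul_one]
  have hNU : N ≤ U := inf_le_left.trans (X.basicOpen_le u)
  refine ⟨N, hNU, resO X inf_le_left t₀, ⟨memB u x hx hu, memB h x hx hh⟩, ?_⟩
  rw [← sub_eq_zero, resO_resO]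
  set d : Γ(X, N ⊓ W) := resO X _ t₀ - resO X _ s with hd
  have hvy : ∀ (p : X) (hp : p ∈ N ⊓ W), p ∈ X.basicOpen y → X.presheaf.germ (N ⊓ W) p hp d = 0 := by
    intro p hp hpy
    have hpU : p ∈ U := hNU hp.1
    let γ := X.presheaf.germ U p hpU
    rw [hd, map_sub, germ_resO, germ_resO, sub_eq_zero]
    have e1 : X.presheaf.germ _ p hp.1.1 t₀ * γ u = γ (v' * c) := by
      have := congrArg (X.presheaf.germ (X.basicOpen u) p hp.1.1) ht₀
      rwa [map_mul, germ_resO, germ_resO] at this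
    have e2 : X.presheaf.germ (U ⊓ W) p ⟨hpU, hp.2⟩ s * γ y ^ n = γ a := by
      have := congrArg (X.presheaf.germ (X.basicOpen y) p hpy) ha
      rw [map_mul] at this
      change X.presheaf.germ _ p hpy (resO X hyW s) * X.presheaf.germ _ p hpy (resO X (X.basicOpen_le y) (y ^ n)) =
        X.presheaf.germ _ p hpy (resO X (X.basicOpen_le y) a) at this
      rwa [germ_resO, germ_resO, germ_resO, map_pow] at this
    have hγy : IsUnit (γ y) := (Scheme.mem_basicOpen X y p hpU).1 hpy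
    have hγu : IsUnit (γ u) := (Scheme.mem_basicOpen X u p hpU).1 hp.1.1
    refine ((hγy.pow n).mul hγu).mul_right_cancel ?_
    have e3 := congrArg γ hua
    simp only [map_mul, map_pow] at e1 e3 ⊢
    linear_combination γ y ^ n * e1 - γ u * e2 - e3
  refine TopCat.Presheaf.section_ext X.sheaf _ _ _ fun w hw => ?_
  show X.presheaf.germ (N ⊓ W) w hw d = X.presheaf.germ (N ⊓ W) w hw 0
  rw [map_zero]
  have hwU : w ∈ U := hNU hw.1
  let γ := X.presheaf.germ U w hwU
  obtain ⟨hyr', -⟩ := germ_weaklyRegular hU hreg hwU (notMemB h w hwU hw.1.2)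
  obtain ⟨f, hfO, hwf⟩ := hU.exists_basicOpen_le (V := N ⊓ W) ⟨w, hw⟩ hwU
  haveI := hU.isLocalization_basicOpen f
  haveI := hU.isLocalization_basicOpen (f * y)
  obtain ⟨⟨q, _, l, rfl⟩, hq⟩ := IsLocalization.surj (Submonoid.powers f) (resO X hfO d)
  have hfy : X.basicOpen (f * y) = X.basicOpen f ⊓ X.basicOpen y := X.basicOpen_mul f y
  have h3 : algebraMap Γ(X, U) Γ(X, X.basicOpen (f * y)) q = 0 := by
    have e4 := congrArg (resO X (hfy.le.trans inf_le_left)) hq
    have e5 : resO X (hfy.le.trans inf_le_left) (resO X hfO d) = 0 := by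
      refine TopCat.Presheaf.section_ext X.sheaf _ _ _ fun p hp => ?_
      show X.presheaf.germ _ p hp _ = X.presheaf.germ _ p hp 0
      rw [germ_resO, germ_resO, map_zero]
      exact hvy p _ (hfy.le hp).2
    show resO X (X.basicOpen_le (f * y)) q = 0
    simp only [resO, map_mul] at e4 e5 ⊢
    rw [e5, zero_mul] at e4
    refine Eq.trans ?_ e4.symm
    exact (resO_resO _ _ q).symm
  obtain ⟨⟨_, r, rfl⟩, hr⟩ := (IsLocalization.map_eq_zero_iff (Submonoid.powers (f * y))
    Γ(X, X.basicOpen (f * y)) q).1 h3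
  have hγf : IsUnit (γ f) := (Scheme.mem_basicOpen X f w hwU).1 hwf
  have hγq : γ q = 0 := by
    have := congrArg γ hr
    simp only [map_mul, map_pow, map_zero, mul_pow, mul_assoc] at this
    exact (hyr'.pow r).right_eq_zero_of_smul ((hγf.pow r).mul_right_eq_zero.1 this)
  have e6 := congrArg (X.presheaf.germ (X.basicOpen f) w hwf) hq
  rw [map_mul] at e6
  change X.presheaf.germ _ w hwf (resO X hfO d) * X.presheaf.germ _ w hwf (resO X (X.basicOpen_le f) (f ^ l)) =
    X.presheaf.germ _ w hwf (resO X (X.basicOpen_le f) q) at e6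
  rw [germ_resO, germ_resO, germ_resO, map_pow] at e6
  exact (hγf.pow l).mul_left_eq_zero.1 (e6.trans hγq)

end Groth.Agent.BigOpen97
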