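import Groth.Agent.BigOpen97.Extend
import Groth.Agent.GrpSch58.Dense
import Groth.Agent.Rat23.DefinedAt

/-!
Morphisms into affine morphisms extend uniquely across big open subsets.
-/

set_option autoImplicit false
set_option backward.isDefEq.respectTransparency.types false
set_option linter.style.haveILetI false

universe u

noncomputable section

open CategoryTheory CategoryTheory.Limits AlgebraicGeometry TopologicalSpace Opposite

namespace Groth.Agent.BigOpen97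

open QC70

variable {X S : Scheme.{u}} (π : X ⟶ S) [Smooth π] [GeometricallyIrreducible π] (W : X.Opens)
  (hW : ∀ x, x ∉ W → (2 : WithBot ℕ∞) ≤ ringKrullDim ↑(CInt.fiberStalk π x))

include hW in
theorem isSchematicallyDense_of_two : CInt.IsSchematicallyDense W :=
  isSchematicallyDense_of_big π W fun x hx => le_trans (by decide) (hW x hx)

include hW in
theorem resO_bijective_big {U : X.Opens} (hU : IsAffineOpen U) {V : S.Opens} (hV : IsAffineOpen V)
    (e : U ≤ π ⁻¹ᵁ V) : Function.Bijective (resO X (inf_le_left : U ⊓ W ≤ U)) := by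
  have hd := isSchematicallyDense_of_two π W hW
  refine ⟨hd U, fun s => ?_⟩
  choose N hN t hxN ht using fun x : U => exists_local_extension π W hW hU hV e s x.2
  have hcover : U ≤ iSup N := fun x hx => Opens.mem_iSup.2 ⟨⟨x, hx⟩, hxN ⟨x, hx⟩⟩
  have compat : TopCat.Presheaf.IsCompatible X.sheaf.obj N t := fun i j => by
    refine hd _ ?_
    show resO X inf_le_left (resO X inf_le_left (t i)) = resO X inf_le_left (resO X inf_le_right (t j))
    have ei := congrArg (resO X (inf_le_inf_right W inf_le_left : (N i ⊓ N j) ⊓ W ≤ N i ⊓ W)) (ht i)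
    have ej := congrArg (resO X (inf_le_inf_right W inf_le_right : (N i ⊓ N j) ⊓ W ≤ N j ⊓ W)) (ht j)
    simp only [resO_resO] at ei ej ⊢
    exact ei.trans ej.symm
  obtain ⟨T, hT, -⟩ := X.sheaf.existsUnique_gluing' N U (fun i => homOfLE (hN i)) hcover t compat
  refine ⟨T, TopCat.Sheaf.eq_of_locally_eq' X.sheaf (fun x : U => N x ⊓ W) (U ⊓ W)
    (fun x => homOfLE (inf_le_inf_right W (hN x)))
    (fun x hx => Opens.mem_iSup.2 ⟨⟨x, hx.1⟩, hxN ⟨x, hx.1⟩, hx.2⟩) _ _ fun i => ?_⟩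
  show resO X _ (resO X _ T) = resO X (inf_le_inf_right W (hN i)) s
  have h1 := congrArg (resO X (inf_le_left : N i ⊓ W ≤ N i)) (show resO X (hN i) T = t i from hT i)
  rw [resO_resO] at h1 ⊢
  exact h1.trans (ht i)

theorem resO_bijective_congr {U U' V V' : X.Opens} (e₁ : U = U') (e₂ : V = V') (h : V ≤ U) (h' : V' ⟶ U')
    (hb : Function.Bijective (resO X h)) : Function.Bijective (X.presheaf.map h'.op) := by
  subst e₁ e₂
  exact hb

/-- Precomposition with an open immersion inducing a bijection on global functions is surjective on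
morphisms into affine schemes. -/
theorem exists_comp_eq {Z U A : Scheme.{u}} [IsAffine A] (j : Z ⟶ U)
    (hj : Function.Bijective j.appTop) (σ : Z ⟶ A) : ∃ t : U ⟶ A, j ≫ t = σ := by
  haveI : IsIso j.appTop := (ConcreteCategory.isIso_iff_bijective _).2 hj
  refine ⟨U.toSpecΓ ≫ Spec.map (σ.appTop ≫ inv j.appTop) ≫ A.isoSpec.inv, ?_⟩
  rw [Scheme.toSpecΓ_naturality_assoc, ← Spec.map_comp_assoc, Category.assoc σ.appTop, IsIso.inv_hom_id,
    Category.comp_id, ← Scheme.toSpecΓ_naturality_assoc, ← Scheme.isoSpec_hom, Iso.hom_inv_id, Category.comp_id]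

theorem eq_of_comp_eq_affine {Z U A : Scheme.{u}} [IsAffine A] (j : Z ⟶ U)
    (hj : Function.Bijective j.appTop) (t₁ t₂ : U ⟶ A) (h : j ≫ t₁ = j ≫ t₂) : t₁ = t₂ := by
  haveI : IsIso j.appTop := (ConcreteCategory.isIso_iff_bijective _).2 hj
  refine ext_of_isAffine ?_
  rw [← cancel_mono j.appTop, ← Scheme.Hom.comp_appTop, ← Scheme.Hom.comp_appTop, h]

theorem bijective_appTop_ι {U : X.Opens} (h : Function.Bijective (resO X (inf_le_left : U ⊓ W ≤ U))) :
    Function.Bijective (U.ι ⁻¹ᵁ W).ι.appTop := by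
  rw [Scheme.Opens.ι_appTop]
  show Function.Bijective (X.presheaf.map ((U.ι.opensFunctor.map (homOfLE le_top))).op)
  have e₁ : U.ι ''ᵁ (⊤ : (U : Scheme).Opens) = U := U.ι_image_top
  have e₂ : U.ι ''ᵁ ((U.ι ⁻¹ᵁ W).ι ''ᵁ ⊤) = U ⊓ W := by
    rw [Scheme.Opens.ι_image_top, Scheme.Hom.image_preimage_eq_opensRange_inf, Scheme.Opens.opensRange_ι]
  exact resO_bijective_congr e₁.symm e₂.symm _ _ h

include hW in
theorem existsUnique_lift {Y : Scheme.{u}} (p : Y ⟶ X) [IsAffineHom p]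
    (s : (W : Scheme.{u}) ⟶ Y) (hs : s ≫ p = W.ι) :
    ∃! t : X ⟶ Y, t ≫ p = 𝟙 X ∧ W.ι ≫ t = s := by
  have hd := isSchematicallyDense_of_two π W hW
  have uniq : ∀ t₁ t₂ : X ⟶ Y, t₁ ≫ p = t₂ ≫ p → W.ι ≫ t₁ = W.ι ≫ t₂ → t₁ = t₂ :=
    fun t₁ t₂ => GrpSch58.eq_of_ι_comp_eq W hd p t₁ t₂
  have hcov : ∀ x : X, ∃ U : X.affineOpens, x ∈ U.1 ∧ ∃ V : S.affineOpens, U.1 ≤ π ⁻¹ᵁ V.1 := by
    intro x
    obtain ⟨_, ⟨V, hV, rfl⟩, hxV, -⟩ :=
      S.isBasis_affineOpens.exists_subset_of_mem_open (Set.mem_univ (π x)) isOpen_univ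
    obtain ⟨_, ⟨U, hU, rfl⟩, hxU, hle⟩ :=
      X.isBasis_affineOpens.exists_subset_of_mem_open (a := x) (u := ↑(π ⁻¹ᵁ V)) hxV (π ⁻¹ᵁ V).2
    exact ⟨⟨U, hU⟩, hxU, ⟨V, hV⟩, hle⟩
  choose U hxU V hUV using hcov
  have hloc : ∀ x, ∃ t : ((U x).1 : Scheme) ⟶ Y, t ≫ p = (U x).1.ι ∧
      ((U x).1.ι ⁻¹ᵁ W).ι ≫ t = ((U x).1.ι ∣_ W) ≫ s := by
    intro x
    let U' := (U x).1
    let A := p ⁻¹ᵁ U'
    haveI : IsAffine (A : Scheme) := (U x).2.preimage p
    haveI : IsAffine (U' : Scheme) := (U x).2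
    have hj := bijective_appTop_ι W (resO_bijective_big π W hW (U x).2 (V x).2 (hUV x))
    have hσp : ((U'.ι ∣_ W) ≫ s) ≫ p = (U'.ι ⁻¹ᵁ W).ι ≫ U'.ι := by
      rw [Category.assoc, hs, morphismRestrict_ι]
    let σ : ((U'.ι ⁻¹ᵁ W) : Scheme) ⟶ (A : Scheme) := IsOpenImmersion.lift A.ι ((U'.ι ∣_ W) ≫ s) (by
      rintro _ ⟨z, rfl⟩
      rw [Scheme.Opens.range_ι]
      show p (((U'.ι ∣_ W) ≫ s) z) ∈ U'
      rw [← Scheme.Hom.comp_apply, hσp, Scheme.Hom.comp_apply]
      exact ((U'.ι ⁻¹ᵁ W).ι z).2)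
    obtain ⟨t, ht⟩ := exists_comp_eq (U'.ι ⁻¹ᵁ W).ι hj σ
    refine ⟨t ≫ A.ι, ?_, by rw [← Category.assoc, ht, IsOpenImmersion.lift_fac]⟩
    have h1 : t ≫ (p ∣_ U') = 𝟙 _ := by
      refine eq_of_comp_eq_affine (U'.ι ⁻¹ᵁ W).ι hj _ _ ?_
      rw [← cancel_mono U'.ι, Category.assoc, Category.assoc, Category.assoc, morphismRestrict_ι,
        ← Category.assoc _ t, ht, ← Category.assoc, IsOpenImmersion.lift_fac, hσp, Category.id_comp]
    calc (t ≫ A.ι) ≫ p = t ≫ (p ∣_ U') ≫ U'.ι := by rw [Category.assoc, morphismRestrict_ι]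
      _ = U'.ι := by rw [← Category.assoc, h1, Category.id_comp]
  choose t htp hts using hloc
  let C : X.OpenCover := X.openCoverOfIsOpenCover (fun x => (U x).1)
    (TopologicalSpace.IsOpenCover.mk (top_le_iff.1 fun x _ => Opens.mem_iSup.2 ⟨x, hxU x⟩))
  have glue : ∀ i j : X, pullback.fst (C.f i) (C.f j) ≫ t i = pullback.snd (C.f i) (C.f j) ≫ t j := by
    intro i j
    change pullback.fst (U i).1.ι (U j).1.ι ≫ t i = pullback.snd (U i).1.ι (U j).1.ι ≫ t j
    let f := pullback.fst (U i).1.ι (U j).1.ι ≫ (U i).1.ι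
    refine GrpSch58.eq_of_ι_comp_eq (f ⁻¹ᵁ W) (Rat23.schDense_preimage_openImm f hd) p _ _
      (by rw [Category.assoc, Category.assoc, htp, htp, pullback.condition]) ?_
    have key : ∀ {Z : Scheme.{u}} (x : X) (g : Z ⟶ ((U x).1 : Scheme)) (g' : Z ⟶ (W : Scheme)),
        g ≫ (U x).1.ι = g' ≫ W.ι → g ≫ t x = g' ≫ s := by
      intro Z x g g' hg
      let U' := (U x).1
      have hr : Set.range g ⊆ Set.range (U'.ι ⁻¹ᵁ W).ι := by
        rintro _ ⟨z, rfl⟩
        rw [Scheme.Opens.range_ι]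
        show U'.ι (g z) ∈ W
        rw [← Scheme.Hom.comp_apply, hg, Scheme.Hom.comp_apply]
        exact (g' z).2
      rw [← IsOpenImmersion.lift_fac (U'.ι ⁻¹ᵁ W).ι g hr, Category.assoc, hts, ← Category.assoc]
      congr 1
      rw [← cancel_mono W.ι, Category.assoc, morphismRestrict_ι, ← Category.assoc, IsOpenImmersion.lift_fac, hg]
    have e : (f ⁻¹ᵁ W).ι ≫ f = (f ∣_ W) ≫ W.ι := (morphismRestrict_ι f W).symm
    rw [← Category.assoc, ← Category.assoc,
      key i ((f ⁻¹ᵁ W).ι ≫ pullback.fst _ _) (f ∣_ W) (by rw [Category.assoc]; exact e),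
      key j ((f ⁻¹ᵁ W).ι ≫ pullback.snd _ _) (f ∣_ W) (by rw [Category.assoc, ← pullback.condition]; exact e)]
  let T : X ⟶ Y := C.glueMorphisms t glue
  have hT : ∀ x, (U x).1.ι ≫ T = t x := C.ι_glueMorphisms t glue
  have hTp : T ≫ p = 𝟙 X := C.hom_ext _ _ fun x => by
    change (U x).1.ι ≫ T ≫ p = (U x).1.ι ≫ 𝟙 X
    rw [← Category.assoc, hT, htp, Category.comp_id]
  have hTs : W.ι ≫ T = s := by
    refine Scheme.Cover.hom_ext (C.pullback₁ W.ι) _ _ fun (x : X) => ?_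
    change pullback.fst W.ι (U x).1.ι ≫ W.ι ≫ T = pullback.fst W.ι (U x).1.ι ≫ s
    rw [← Category.assoc, pullback.condition, Category.assoc, hT]
    let g := pullback.snd W.ι (U x).1.ι
    let g' := pullback.fst W.ι (U x).1.ι
    have hr : Set.range g ⊆ Set.range ((U x).1.ι ⁻¹ᵁ W).ι := by
      rintro _ ⟨z, rfl⟩
      rw [Scheme.Opens.range_ι]
      show (U x).1.ι (g z) ∈ W
      rw [← Scheme.Hom.comp_apply, ← pullback.condition, Scheme.Hom.comp_apply]
      exact (g' z).2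
    show g ≫ t x = g' ≫ s
    rw [← IsOpenImmersion.lift_fac ((U x).1.ι ⁻¹ᵁ W).ι g hr, Category.assoc, hts, ← Category.assoc]
    congr 1
    rw [← cancel_mono W.ι, Category.assoc, morphismRestrict_ι, ← Category.assoc, IsOpenImmersion.lift_fac, pullback.condition]
  exact ⟨T, ⟨hTp, hTs⟩, fun t' h => uniq t' T (h.1.trans hTp.symm) (h.2.trans hTs.symm)⟩

end Groth.Agent.BigOpen97
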