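import Groth.Agent.CAlg9.FibreDepthOpen
import Groth.Agent.PP93.PicInj
import Groth.Agent.Pure83.Regular
import Groth.Agent.VarGal.SmoothReg
import Groth.Agent.Div89.WeakAss

/-!
Regular pairs along closed subsets of fibre codimension two in smooth morphisms.
-/

set_option autoImplicit false
set_option backward.isDefEq.respectTransparency.types false
set_option linter.style.haveILetI false

universe u

noncomputable section

open CategoryTheory CategoryTheory.Limits AlgebraicGeometry TopologicalSpace Opposite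
open RingTheory.Sequence TensorProduct

namespace Groth.Agent.BigOpen97

open QC70 Fib62 CAlg9.FibreDepth

attribute [local instance] Algebra.TensorProduct.rightAlgebra

variable {X S : Scheme.{u}} (π : X ⟶ S) [Smooth π]

theorem two_le_depth_fiber {x : X} (hx : (2 : WithBot ℕ∞) ≤ ringKrullDim ↑(CInt.fiberStalk π x)) :
    (2 : ℕ∞) ≤ LocCoh.depth ((π.fiber (π x)).presheaf.stalk (π.asFiber x))
      (((Scheme.Modules.pullback (π.fiberι (π x))).obj (Coh.structureModule X)).presheaf.stalk (π.asFiber x)) := by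
  haveI := @VarGal.isRegularLocalRing_stalk_of_smooth (S.residueField (π x)) _ _ (π.fiberToSpecResidueField (π x))
    (MorphismProperty.pullback_snd π _ ‹Smooth π›) (π.asFiber x)
  obtain ⟨J⟩ := PP93.nonempty_pullback_unit (π.fiberι (π x))
  let e : ((Scheme.Modules.pullback (π.fiberι (π x))).obj (Coh.structureModule X)).presheaf.stalk (π.asFiber x)
      ≃ₗ[(π.fiber (π x)).presheaf.stalk (π.asFiber x)] (π.fiber (π x)).presheaf.stalk (π.asFiber x) :=
    (LinearEquiv.ofBijective (stalkLinear J.hom (π.asFiber x))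
      ⟨injective_stalkMapM_of_mono J.hom _, surjective_stalkMapM_of_epi J.hom _⟩).trans
      (unitStalkEquiv (π.asFiber x)).symm
  rw [EGA4Alg4.depth_eq_of_equiv e]
  exact Pure83.two_le_depth_regular hx

variable {U : X.Opens} (hU : IsAffineOpen U) {V : S.Opens} (hV : IsAffineOpen V) (e : U ≤ π ⁻¹ᵁ V)

include hV in
/-- A pair in the ideal of `Z`, regular on the fibre at a point of `Z`. -/
theorem exists_fibre_pair (Z : Set X) (hZ : IsClosed Z)
    {x : X} (hdim : ∀ w ∈ Z, w ⤳ x → (2 : WithBot ℕ∞) ≤ ringKrullDim ↑(CInt.fiberStalk π w)) (hxU : x ∈ U) (hxZ : x ∈ Z) :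
    letI : Algebra Γ(S, V) Γ(X, U) := (π.appLE V U e).hom.toAlgebra
    ∃ gs : List Γ(X, U), gs.length = 2 ∧
      (∀ g ∈ gs, ∀ y : X, y ∈ X.basicOpen g → y ∉ Z) ∧
      (∀ g ∈ gs, g ∈ (hU.primeIdealOf ⟨x, hxU⟩).asIdeal) ∧
      IsWeaklyRegular (FibreLocal Γ(S, V) (hU.primeIdealOf ⟨x, hxU⟩) ⊗[Γ(X, U)] Γ(X, U)) gs := by
  letI : Algebra Γ(S, V) Γ(X, U) := (π.appLE V U e).hom.toAlgebra
  haveI : Algebra.Smooth Γ(S, V) Γ(X, U) :=
    RingHom.smooth_algebraMap.1 (HasRingHomProperty.appLE (P := @Smooth) π ‹Smooth π› ⟨V, hV⟩ ⟨U, hU⟩ e)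
  haveI : Algebra.FiniteType Γ(S, V) Γ(X, U) := inferInstance
  haveI : (Coh.structureModule X).IsQuasicoherent := Div89.isQCoh_structureModule X
  let Z' : Set (Spec Γ(X, U)) := hU.fromSpec ⁻¹' Z
  have hZ' : IsClosed Z' := hZ.preimage hU.fromSpec.continuous
  let a : Ideal Γ(X, U) := PrimeSpectrum.vanishingIdeal Z'
  have ha : ∀ q : PrimeSpectrum Γ(X, U), a ≤ q.asIdeal ↔ hU.fromSpec q ∈ Z := fun q => by
    have e : PrimeSpectrum.zeroLocus (a : Set Γ(X, U)) = Z' :=
      (PrimeSpectrum.zeroLocus_vanishingIdeal_eq_closure Z').trans hZ'.closure_eq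
    exact (PrimeSpectrum.mem_zeroLocus _ _).symm.trans (Set.ext_iff.1 e q)
  have hxa : a ≤ (hU.primeIdealOf ⟨x, hxU⟩).asIdeal := (ha _).2 (by rw [hU.fromSpec_primeIdealOf]; exact hxZ)
  obtain ⟨gs, hlen, hmem, hreg⟩ := natCast_le_idealDepth_fibre (A := Γ(S, V)) Γ(X, U) a
    (hU.primeIdealOf ⟨x, hxU⟩) hxa 2 fun P' haP' hle' _ => by
      have hwU : hU.fromSpec P' ∈ U := hU.range_fromSpec.le ⟨P', rfl⟩
      have hP' : hU.primeIdealOf ⟨hU.fromSpec P', hwU⟩ = P' :=
        hU.fromSpec.isOpenEmbedding.injective (hU.fromSpec_primeIdealOf ⟨_, hwU⟩)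
      haveI : Module.Finite Γ(X, U) Γ(Coh.structureModule X, U) := Module.Finite.self Γ(X, U)
      have h := (natCast_le_fiberDepth_iff π (F := Coh.structureModule X) e hU hV hwU 2).1
        (two_le_depth_fiber π (hdim _ ((ha P').1 haP') ((((PrimeSpectrum.le_iff_specializes P' _).1 hle').map hU.fromSpec.continuous).trans
          (specializes_of_eq (hU.fromSpec_primeIdealOf ⟨x, hxU⟩)))))
      rw [hP'] at h
      exact h
  refine ⟨gs, hlen, fun g hg y hy hyZ => ?_, fun g hg => hxa (hmem g hg), hreg⟩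
  have hyU : y ∈ U := X.basicOpen_le g hy
  obtain ⟨q, rfl⟩ := hU.range_fromSpec.ge hyU
  have hq : q ∈ PrimeSpectrum.basicOpen g := by
    rw [← hU.fromSpec_preimage_basicOpen g] at *
    exact hy
  exact hq ((ha q).2 hyZ (hmem g hg))

end Groth.Agent.BigOpen97
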